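import Groth.Agent.Lib.LocProj.Algebra
import Groth.Agent.Lib.QCoh.Qcqs
import Groth.Prelude.Def_Coh

/-!
# Local projectivity of quasi-coherent modules
-/

universe u

open CategoryTheory Opposite TopologicalSpace AlgebraicGeometry

namespace GrothLib.LocProj

variable {X : Scheme.{u}} (M : X.Modules) {U : X.Opens} (g : Γ(X, U))

noncomputable local instance secBasicModule : Module Γ(X, U) Γ(M, X.basicOpen g) :=
  Module.compHom _ (algebraMap Γ(X, U) Γ(X, X.basicOpen g))

local instance secBasicTower : IsScalarTower Γ(X, U) Γ(X, X.basicOpen g) Γ(M, X.basicOpen g) :=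
  IsScalarTower.of_algebraMap_smul fun _ _ => rfl

/-- Restriction to a principal open, linearly. -/
noncomputable def resBasic : Γ(M, U) →ₗ[Γ(X, U)] Γ(M, X.basicOpen g) where
  toFun s := M.presheaf.map (homOfLE (X.basicOpen_le g)).op s
  map_add' := map_add _
  map_smul' r s := M.map_smul _ r s

theorem isLocalizedModule_resBasic [M.IsQuasicoherent] (hU : IsAffineOpen U) :
    IsLocalizedModule (Submonoid.powers g) (resBasic M g) := by
  have := hU.isLocalization_basicOpen g
  obtain ⟨hl, hs⟩ := GrothLib.QCoh.smulLift_and_smulSep_of_isAffineOpen hU M g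
  have hu : IsUnit (algebraMap Γ(X, U) Γ(X, X.basicOpen g) g) :=
    IsLocalization.Away.algebraMap_isUnit g
  refine IsLocalizedModule.Away.mk_of_addCommGroup ((Module.End.isUnit_iff _).2 ?_) ?_ ?_
  · obtain ⟨v, hv⟩ := hu
    refine ⟨fun a b h => ?_, fun a => ⟨(↑v⁻¹ : Γ(X, X.basicOpen g)) • a, ?_⟩⟩
    · change algebraMap Γ(X, U) Γ(X, X.basicOpen g) g • a = algebraMap Γ(X, U) Γ(X, X.basicOpen g) g • b at h
      rw [← hv] at h
      have := congrArg ((↑v⁻¹ : Γ(X, X.basicOpen g)) • ·) h
      simpa [smul_smul] using this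
    · change algebraMap Γ(X, U) Γ(X, X.basicOpen g) g • ((↑v⁻¹ : Γ(X, X.basicOpen g)) • a) = a
      rw [← hv, smul_smul, Units.mul_inv, one_smul]
  · intro x
    obtain ⟨n, t, ht⟩ := hl x
    refine ⟨n, t, ?_⟩
    change algebraMap Γ(X, U) Γ(X, X.basicOpen g) (g ^ n) • x = resBasic M g t
    rw [map_pow]
    exact ht.symm
  · intro x hx
    exact hs x hx

theorem projective_basicOpen [M.IsQuasicoherent] (hU : IsAffineOpen U)
    [Module.Projective Γ(X, U) Γ(M, U)] :
    Module.Projective Γ(X, X.basicOpen g) Γ(M, X.basicOpen g) := by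
  have := hU.isLocalization_basicOpen g
  have := isLocalizedModule_resBasic M g hU
  exact Module.Projective.of_equiv'
    (IsLocalizedModule.isBaseChange (Submonoid.powers g) Γ(X, X.basicOpen g) (resBasic M g)).equiv

/-- Projective sections on an affine cover imply projective sections on every affine open. -/
theorem projective_sections [M.IsQuasicoherent] {ι : Type u} (W : ι → X.Opens)
    (hW : ⨆ i, W i = ⊤) (hWA : ∀ i, IsAffineOpen (W i))
    (hP : ∀ i, Module.Projective Γ(X, W i) Γ(M, W i)) {V : X.Opens} (hV : IsAffineOpen V) :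
    Module.Projective Γ(X, V) Γ(M, V) := by
  classical
  have key : ∀ x : V, ∃ a : Γ(X, V), (x : X) ∈ X.basicOpen a ∧
      Module.Projective Γ(X, X.basicOpen a) Γ(M, X.basicOpen a) := by
    intro x
    obtain ⟨i, hi⟩ := Opens.mem_iSup.1 (hW.ge (Opens.mem_top (x : X)))
    obtain ⟨a, b, e, hx⟩ := exists_basicOpen_le_affine_inter hV (hWA i) x ⟨x.2, hi⟩
    refine ⟨a, hx, ?_⟩
    have := hP i
    have := projective_basicOpen M b (hWA i)
    rw [e]; exact this
  choose a ha hPa using key
  have hspan : Ideal.span (Set.range a) = ⊤ := (hV.self_le_iSup_basicOpen_iff (s := Set.range a)).1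
    fun x hx => (Opens.mem_iSup (s := fun f : Set.range a => X.basicOpen f.1)).2 ⟨(⟨a ⟨x, hx⟩, ⟨⟨x, hx⟩, rfl⟩⟩ : Set.range a), ha ⟨x, hx⟩⟩
  obtain ⟨t, ht, htop⟩ := Submodule.mem_span_finite_of_mem_span
    (show (1 : Γ(X, V)) ∈ Ideal.span (Set.range a) from hspan ▸ Submodule.mem_top)
  choose x hx using fun g : t => ht g.2
  let e := t.equivFin
  let b : Fin t.card → Γ(X, V) := fun j => a (x (e.symm j))
  have hb : Ideal.span (Set.range b) = ⊤ := (Ideal.eq_top_iff_one _).2 (Submodule.span_mono
    (show (↑t : Set Γ(X, V)) ⊆ Set.range b from fun g hg => ⟨e ⟨g, hg⟩, by simp [b, hx]⟩) htop)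
  have := fun j => hV.isLocalization_basicOpen (b j)
  have := fun j => isLocalizedModule_resBasic M (b j) hV
  have : ∀ j, Module.Projective Γ(X, X.basicOpen (b j)) Γ(M, X.basicOpen (b j)) := fun j => hPa _
  exact projective_of_isLocalization b hb (fun j => Γ(X, X.basicOpen (b j))) Γ(M, V)
    (fun j => Γ(M, X.basicOpen (b j))) (fun j => resBasic M (b j))

end GrothLib.LocProj
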