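import Groth.Agent.Lib.LocProj.Scheme
import Groth.Agent.S2265
import Groth.Agent.S7392
import Groth.Agent.Lib.FittSheaf.Pullback

universe u

open CategoryTheory Opposite TopologicalSpace AlgebraicGeometry

namespace GrothLib.LocProj

/-- Projective sections over every affine open. -/
def IsLP {X : Scheme.{u}} (M : X.Modules) : Prop :=
  ∀ U : X.Opens, IsAffineOpen U → Module.Projective Γ(X, U) Γ(M, U)

theorem projective_of_iso {X : Scheme.{u}} {M N : X.Modules} (e : M ≅ N) (U : X.Opens)
    [Module.Projective Γ(X, U) Γ(M, U)] : Module.Projective Γ(X, U) Γ(N, U) := by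
  let l : Γ(M, U) ≃ₗ[Γ(X, U)] Γ(N, U) :=
    { toFun := fun s => e.hom.app U s
      invFun := fun s => e.inv.app U s
      map_add' := map_add _
      map_smul' := fun r s => Scheme.Modules.Hom.app_smul e.hom r s
      left_inv := fun s => by
        change ((e.hom ≫ e.inv).app U) s = s
        rw [e.hom_inv_id]; rfl
      right_inv := fun s => by
        change ((e.inv ≫ e.hom).app U) s = s
        rw [e.inv_hom_id]; rfl }
  exact Module.Projective.of_equiv' l

theorem isLP_of_iso {X : Scheme.{u}} {M N : X.Modules} (e : M ≅ N) (h : IsLP M) : IsLP N :=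
  fun U hU => have := h U hU; projective_of_iso e U

theorem projective_restrict_iff {X Y : Scheme.{u}} (j : X ⟶ Y) [IsOpenImmersion j] (M : Y.Modules)
    (U : X.Opens) :
    Module.Projective Γ(X, U) Γ(M.restrict j, U) ↔ Module.Projective Γ(Y, j ''ᵁ U) Γ(M, j ''ᵁ U) := by
  let r : Γ(X, U) ≃+* Γ(Y, j ''ᵁ U) := (j.appIso U).symm.commRingCatIsoToRingEquiv
  letI := RingHomInvPair.of_ringEquiv r
  letI := RingHomInvPair.symm (↑r : Γ(X, U) →+* Γ(Y, j ''ᵁ U)) ↑r.symm
  let l : Γ(M.restrict j, U) ≃ₛₗ[(↑r : Γ(X, U) →+* Γ(Y, j ''ᵁ U))] Γ(M, j ''ᵁ U) :=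
    { toFun := fun s => (M.restrictAppIso j U).hom s
      invFun := fun s => (M.restrictAppIso j U).inv s
      map_add' := fun _ _ => rfl
      map_smul' := fun _ _ => rfl
      left_inv := fun _ => rfl
      right_inv := fun _ => rfl }
  exact ⟨fun h => have := h; Module.Projective.of_equiv l,
    fun h => have := h; Module.Projective.of_equiv l.symm⟩

theorem isLP_restrict {X Y : Scheme.{u}} (j : X ⟶ Y) [IsOpenImmersion j] {M : Y.Modules}
    (h : IsLP M) : IsLP (M.restrict j) :=
  fun U hU => (projective_restrict_iff j M U).2 (h _ (hU.image_of_isOpenImmersion j))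

/-- Pullback along a morphism of affine schemes preserves local projectivity. -/
theorem isLP_pullback_Spec {A B : CommRingCat.{u}} (φ : A ⟶ B) (M : (Spec A).Modules)
    [M.IsQuasicoherent] (h : IsLP M) :
    IsLP ((Scheme.Modules.pullback (Spec.map φ)).obj M) := by
  letI : Algebra A B := φ.hom.toAlgebra
  have := (isQuasicoherent_iff_isIso_fromTildeΓ M).1 ‹_›
  let e₀ := asIso M.fromTildeΓ
  let P : ModuleCat.{u} A := moduleSpecΓFunctor.obj M
  have hP : Module.Projective A P := (Groth.Agent.S7392.result A P).1 (isLP_of_iso e₀.symm h)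
  obtain ⟨e₁⟩ := Groth.Agent.S2265.result A B P
  refine isLP_of_iso (((Scheme.Modules.pullback (Spec.map φ)).mapIso e₀.symm) ≪≫ e₁).symm ?_
  have : Module.Projective B (TensorProduct A B P) := inferInstance
  exact (Groth.Agent.S7392.result B _).2 this

/-- Pullback preserves local projectivity of quasi-coherent modules. -/
theorem isLP_pullback {X Y : Scheme.{u}} (f : X ⟶ Y) (G : Y.Modules) [G.IsQuasicoherent]
    (h : IsLP G) : IsLP ((Scheme.Modules.pullback f).obj G) := by
  intro U hU
  have := FittSheaf.isQuasicoherent_pullback f G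
  let ι := {W : X.Opens // IsAffineOpen W ∧ ∃ V : Y.Opens, IsAffineOpen V ∧ W ≤ f ⁻¹ᵁ V}
  refine projective_sections _ (fun i : ι => i.1) ?_ (fun i => i.2.1) ?_ hU
  · refine eq_top_iff.2 fun x _ => ?_
    obtain ⟨V, hV, hxV, -⟩ := exists_isAffineOpen_mem_and_subset (x := f x) (U := ⊤) trivial
    obtain ⟨W, hW, hxW, hWV⟩ := exists_isAffineOpen_mem_and_subset (x := x) (U := f ⁻¹ᵁ V) hxV
    exact Opens.mem_iSup.2 ⟨⟨W, hW, V, hV, hWV⟩, hxW⟩
  · rintro ⟨W, hW, V, hV, hWV⟩
    have hc := hV.SpecMap_appLE_fromSpec f hW hWV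
    have key : IsLP (((Scheme.Modules.pullback f).obj G).restrict hW.fromSpec) :=
      isLP_of_iso
        (((Scheme.Modules.pullback (Spec.map (f.appLE V W hWV))).mapIso
            ((Scheme.Modules.restrictFunctorIsoPullback hV.fromSpec).app G)) ≪≫
          (Scheme.Modules.pullbackComp _ _).app G ≪≫
          (Scheme.Modules.pullbackCongr hc).app G ≪≫
          ((Scheme.Modules.pullbackComp _ _).app G).symm ≪≫
          ((Scheme.Modules.restrictFunctorIsoPullback hW.fromSpec).app _).symm)
        (isLP_pullback_Spec _ _ (isLP_restrict hV.fromSpec h))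
    have h1 := (projective_restrict_iff _ _ _).1 (key ⊤ (isAffineOpen_top _))
    rwa [Scheme.Hom.image_top_eq_opensRange, hW.opensRange_fromSpec] at h1

end GrothLib.LocProj
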