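import Groth.Agent.Lib.ProjDescent.Main
import Mathlib.RingTheory.Localization.BaseChange
import Mathlib.LinearAlgebra.TensorProduct.Pi
import Mathlib.RingTheory.Flat.FaithfullyFlat.Algebra

/-!
# Projectivity is local on the spectrum
-/

universe u

open TensorProduct

namespace GrothLib.LocProj

/-- A projective module over a projective algebra is projective. -/
theorem projective_trans (S T N : Type u) [CommRing S] [CommRing T] [Algebra S T] [AddCommGroup N]
    [Module S N] [Module T N] [IsScalarTower S T N] [Module.Projective S T] [Module.Projective T N] :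
    Module.Projective S N := by
  classical
  obtain ⟨s, hs⟩ := (Module.projective_def' (R := T) (P := N)).1 ‹_›
  have : Module.Projective S (N →₀ T) :=
    Module.Projective.of_equiv' ((finsuppLEquivDirectSum S T N).symm)
  exact Module.Projective.of_split (s.restrictScalars S)
    ((Finsupp.linearCombination T id).restrictScalars S) (LinearMap.ext fun x => LinearMap.congr_fun hs x)

variable {ι : Type} [Fintype ι] [DecidableEq ι]

/-- A finite product of projective modules is projective over the product ring. -/
theorem projective_pi (S : ι → Type u) [∀ i, CommRing (S i)] (N : ι → Type u)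
    [∀ i, AddCommGroup (N i)] [∀ i, Module (S i) (N i)] [∀ i, Module.Projective (S i) (N i)] :
    Module.Projective (∀ i, S i) (∀ i, N i) := by
  let : ∀ i, Algebra (∀ i, S i) (S i) := fun i => (Pi.evalRingHom S i).toAlgebra
  let : ∀ i, Module (∀ i, S i) (N i) := fun i => Module.compHom _ (Pi.evalRingHom S i)
  have : ∀ i, IsScalarTower (∀ i, S i) (S i) (N i) := fun i =>
    IsScalarTower.of_algebraMap_smul fun _ _ => rfl
  have hS : ∀ i, Module.Projective (∀ i, S i) (S i) := fun i =>
    Module.Projective.of_split (M := ∀ i, S i)
      { toFun := fun x => Pi.single i x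
        map_add' := fun x y => Pi.single_add i x y
        map_smul' := fun r x => funext fun j => by
          by_cases h : j = i
          · subst h
            simp only [Pi.single_eq_same, RingHom.id_apply, Pi.smul_apply, smul_eq_mul]
            exact (Pi.single_eq_same (M := S) j (r j * x)).symm.trans (by simp)
          · simp [Pi.single_eq_of_ne h] }
      { toFun := fun r => r i, map_add' := fun _ _ => rfl, map_smul' := fun _ _ => rfl }
      (LinearMap.ext fun x => Pi.single_eq_same i x)
  have : ∀ i, Module.Projective (∀ i, S i) (N i) := fun i => projective_trans _ (S i) (N i)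
  let e : (Π₀ i, N i) ≃ₗ[∀ i, S i] (∀ i, N i) :=
    { DFinsupp.equivFunOnFintype with
      map_add' := fun _ _ => rfl
      map_smul' := fun _ _ => rfl }
  exact Module.Projective.of_equiv' e

/-- Projectivity can be checked on a covering by principal opens. -/
theorem projective_of_isLocalization {R : Type u} [CommRing R] (g : ι → R)
    (hg : Ideal.span (Set.range g) = ⊤) (S : ι → Type u) [∀ i, CommRing (S i)] [∀ i, Algebra R (S i)]
    [∀ i, IsLocalization.Away (g i) (S i)] (M : Type u) [AddCommGroup M] [Module R M]
    (N : ι → Type u) [∀ i, AddCommGroup (N i)] [∀ i, Module R (N i)] [∀ i, Module (S i) (N i)]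
    [∀ i, IsScalarTower R (S i) (N i)] (f : ∀ i, M →ₗ[R] N i)
    [∀ i, IsLocalizedModule (Submonoid.powers (g i)) (f i)] [∀ i, Module.Projective (S i) (N i)] :
    Module.Projective R M := by
  have : ∀ i, Module.Flat R (S i) := fun i => IsLocalization.flat (S i) (Submonoid.powers (g i))
  have : Module.Flat R (∀ i, S i) := by
    have : Module.Flat R (Π₀ i, S i) := Module.Flat.dfinsupp_iff.2 fun i => inferInstance
    exact Module.Flat.of_linearEquiv (DFinsupp.linearEquivFunOnFintype (R := R) (M := S)).symm
  have : Module.FaithfullyFlat R (∀ i, S i) := by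
    refine Module.FaithfullyFlat.of_comap_surjective fun p => ?_
    obtain ⟨i, hi⟩ : ∃ i, g i ∉ p.asIdeal := by
      by_contra h
      push Not at h
      exact p.isPrime.ne_top (top_le_iff.1 (hg.ge.trans (Ideal.span_le.2 (Set.range_subset_iff.2 h))))
    have hp : p ∈ Set.range (PrimeSpectrum.comap (algebraMap R (S i))) := by
      rw [PrimeSpectrum.localization_away_comap_range (S i) (g i)]
      exact hi
    obtain ⟨q, hq⟩ := hp
    refine ⟨q.comap (Pi.evalRingHom S i), ?_⟩
    rw [← hq, ← PrimeSpectrum.comap_comp_apply]
    rfl
  let F : M →ₗ[R] (∀ i, N i) := LinearMap.pi f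
  let e₁ : ∀ i, S i ⊗[R] M ≃ₗ[S i] N i := fun i =>
    (IsLocalizedModule.isBaseChange (Submonoid.powers (g i)) (S i) (f i)).equiv
  let e : (∀ i, S i) ⊗[R] M ≃ₗ[R] (∀ i, N i) :=
    TensorProduct.piLeft R M S ≪≫ₗ LinearEquiv.piCongrRight fun i => (e₁ i).restrictScalars R
  have he : ∀ (s : ∀ i, S i) (m : M) (i : ι), e (s ⊗ₜ[R] m) i = s i • f i m := fun s m i => by
    simp [e, e₁, IsBaseChange.equiv_tmul]
  have hlin : ∀ (s : ∀ i, S i) (x : (∀ i, S i) ⊗[R] M), e (s • x) = s • e x := fun s x => by
    induction x using TensorProduct.induction_on with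
    | zero => rw [smul_zero, map_zero, smul_zero]
    | tmul t m =>
      refine funext fun i => ?_
      rw [TensorProduct.smul_tmul', he]
      exact (mul_smul (s i) (t i) (f i m)).trans (congrArg (s i • ·) (he t m i).symm)
    | add x y hx hy => rw [smul_add, map_add, hx, hy, map_add, smul_add]
  have : Module.Projective (∀ i, S i) (∀ i, N i) := projective_pi S N
  have : Module.Projective (∀ i, S i) ((∀ i, S i) ⊗[R] M) :=
    Module.Projective.of_equiv' (R := ∀ i, S i) (M := ∀ i, N i)
      { e.symm with
        map_smul' := fun s y => e.injective (by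
          change e (e.symm (s • y)) = e (s • e.symm y)
          rw [LinearEquiv.apply_symm_apply, hlin, LinearEquiv.apply_symm_apply]) }
  exact GrothLib.ProjDescent.projective_of_faithfullyFlat (∀ i, S i) M

end GrothLib.LocProj
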